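import Mathlib.Algebra.Algebra.Basic
import Mathlib.Algebra.BigOperators.Fin
import Mathlib.LinearAlgebra.Trace
import Mathlib.LinearAlgebra.Pi
import Mathlib.Algebra.Ring.Int.Parity
import Mathlib.Tactic.Ring
import Mathlib.Tactic.NoncommRing
import Mathlib.Tactic.Module
import Mathlib.Tactic.Abel
import Mathlib.Tactic.LinearCombination

/-!
Supercommutator identities.
-/

set_option autoImplicit false
universe u v w

namespace K821.SuperComm

theorem mul_prod_add {R : Type u} {S : Type v} [CommRing R] [Ring S]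
    [Algebra R S] (x : S) : ∀ (n : ℕ) (y : Fin (n + 1) → S) (r : Fin (n + 1) → R)
    (_ : ∀ i : Fin (n + 1), x * y i + y i * x = algebraMap R S (r i)),
    x * (List.ofFn y).prod + (-1 : S) ^ n * ((List.ofFn y).prod * x) =
      ∑ p : Fin (n + 1), (-1 : S) ^ (p : ℕ) * (r p • (List.ofFn (fun q : Fin n => y (p.succAbove q))).prod)
  | 0, y, r, h => by
    simp [Algebra.smul_def, h 0]
  | n + 1, y, r, h => by
    have ih := mul_prod_add x n (fun i => y i.succ) (fun i => r i.succ) (fun i => h i.succ)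
    rw [List.ofFn_succ, List.prod_cons, Fin.sum_univ_succ]
    set P := (List.ofFn fun i => y i.succ).prod with hP
    have e1 : ∀ p : Fin (n + 1), (List.ofFn (fun q : Fin (n + 1) => y (p.succ.succAbove q))).prod =
        y 0 * (List.ofFn (fun q : Fin n => y (p.succAbove q).succ)).prod := by
      intro p
      rw [List.ofFn_succ, List.prod_cons]
      simp
    have e2 : ∀ p : Fin (n + 1), (-1 : S) ^ ((p.succ : Fin (n + 2)) : ℕ) *
        (r p.succ • (List.ofFn (fun q : Fin (n + 1) => y (p.succ.succAbove q))).prod) =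
        - (y 0 * ((-1 : S) ^ (p : ℕ) * (r p.succ • (List.ofFn (fun q : Fin n => y (p.succAbove q).succ)).prod))) := by
      intro p
      rw [e1, Fin.val_succ, pow_succ, mul_neg_one, neg_mul, ← mul_smul_comm, ← mul_assoc, ← mul_assoc,
        ((Commute.neg_one_left (y 0)).pow_left _).eq]
    rw [Finset.sum_congr rfl fun p _ => e2 p, Finset.sum_neg_distrib, ← Finset.mul_sum, ← ih]
    have e3 : ((-1 : S) ^ ((0 : Fin (n + 2)) : ℕ) * (r 0 • (List.ofFn (fun q : Fin (n + 1) => y ((0 : Fin (n + 2)).succAbove q))).prod)) =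
        (x * y 0 + y 0 * x) * P := by
      rw [h 0]
      simp [hP, Algebra.smul_def]
    rw [e3]
    have c : (-1 : S) ^ n * y 0 = y 0 * (-1 : S) ^ n := ((Commute.neg_one_left (y 0)).pow_left n).eq
    rw [pow_succ, mul_neg_one, neg_mul, mul_add, ← mul_assoc (y 0) ((-1 : S) ^ n), ← c]
    noncomm_ring

variable {R : Type u} [CommRing R]

/-- the sign of an integer -/
def sgn (R : Type u) [CommRing R] (z : ℤ) : R := (-1 : R) ^ z.natAbs

theorem sgn_add (a b : ℤ) : sgn R (a + b) = sgn R a * sgn R b := by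
  have hev : ∀ z : ℤ, Even z → sgn R z = 1 := fun z hz => (Int.natAbs_even.mpr hz).neg_one_pow
  have hod : ∀ z : ℤ, Odd z → sgn R z = -1 := fun z hz => (Int.natAbs_odd.mpr hz).neg_one_pow
  rcases Int.even_or_odd a with ha | ha <;> rcases Int.even_or_odd b with hb | hb
  · rw [hev _ ha, hev _ hb, hev _ (ha.add hb), one_mul]
  · rw [hev _ ha, hod _ hb, hod _ (ha.add_odd hb), one_mul]
  · rw [hod _ ha, hev _ hb, hod _ (ha.add_even hb), mul_one]
  · rw [hod _ ha, hod _ hb, hev _ (ha.add_odd hb)]; ring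

theorem sgn_mul_neg_self (a : ℤ) : sgn R (a * (-a)) = sgn R a := by
  have hev : ∀ z : ℤ, Even z → sgn R z = 1 := fun z hz => (Int.natAbs_even.mpr hz).neg_one_pow
  have hod : ∀ z : ℤ, Odd z → sgn R z = -1 := fun z hz => (Int.natAbs_odd.mpr hz).neg_one_pow
  rcases Int.even_or_odd a with ha | ha
  · rw [hev _ ha, hev _ (ha.mul_right _)]
  · rw [hod _ ha, hod _ (ha.mul ha.neg)]

variable {ι : Type v} [Fintype ι] [DecidableEq ι]
  (M : ι → Type w) [∀ i, AddCommGroup (M i)] [∀ i, Module R (M i)]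
    [∀ i, Module.Free R (M i)] [∀ i, Module.Finite R (M i)]

theorem sum_comp' {κ : Type v} (s : Finset κ) {M₁ : Type*} {M₂ : Type*} {N₂ : Type*} [AddCommMonoid M₁] [AddCommMonoid N₂]
    [AddCommMonoid M₂] [Module R M₁] [Module R N₂] [Module R M₂] (f : κ → N₂ →ₗ[R] M₂) (g : M₁ →ₗ[R] N₂) :
    (∑ i ∈ s, f i) ∘ₗ g = ∑ i ∈ s, f i ∘ₗ g := by
  ext x
  simp [LinearMap.sum_apply]

theorem comp_sum' {κ : Type v} (s : Finset κ) {M₁ : Type*} {M₂ : Type*} {N₂ : Type*} [AddCommMonoid M₁] [AddCommMonoid N₂]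
    [AddCommMonoid M₂] [Module R M₁] [Module R N₂] [Module R M₂] (f : κ → M₁ →ₗ[R] N₂) (g : N₂ →ₗ[R] M₂) :
    g ∘ₗ (∑ i ∈ s, f i) = ∑ i ∈ s, g ∘ₗ f i := by
  ext x
  simp [LinearMap.sum_apply]

/-- the grading involution -/
def eps (deg : ι → ℤ) : (Π k, M k) →ₗ[R] (Π k, M k) :=
  ∑ i : ι, (LinearMap.single R M i) ∘ₗ (((-1 : R) ^ (deg i).natAbs) • (LinearMap.proj i : (Π k, M k) →ₗ[R] M i))

/-- the block from `M i` to `M j` -/
def blk (φ : (Π k, M k) →ₗ[R] (Π k, M k)) (i j : ι) : M i →ₗ[R] M j :=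
  (LinearMap.proj j) ∘ₗ φ ∘ₗ (LinearMap.single R M i)

theorem trace_eps_comp (deg : ι → ℤ) (φ : (Π k, M k) →ₗ[R] (Π k, M k)) :
    LinearMap.trace R (Π k, M k) (eps M deg ∘ₗ φ) =
      ∑ i : ι, sgn R (deg i) * LinearMap.trace R (M i) (blk M φ i i) := by
  unfold eps
  rw [sum_comp', map_sum]
  refine Finset.sum_congr rfl fun i _ => ?_
  rw [LinearMap.comp_smul, LinearMap.smul_comp, map_smul, smul_eq_mul]
  congr 1
  rw [LinearMap.comp_assoc, LinearMap.trace_comp_comm']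
  rfl

omit [∀ i, Module.Free R (M i)] [∀ i, Module.Finite R (M i)] in
theorem sum_single_proj : (∑ j : ι, (LinearMap.single R M j) ∘ₗ (LinearMap.proj j : (Π k, M k) →ₗ[R] M j)) =
    LinearMap.id := by
  apply LinearMap.ext
  intro x
  ext k
  simp [Finset.sum_apply]

omit [∀ i, Module.Free R (M i)] [∀ i, Module.Finite R (M i)] in
theorem blk_comp (φ ψ : (Π k, M k) →ₗ[R] (Π k, M k)) (i k : ι) :
    blk M (φ ∘ₗ ψ) i k = ∑ j : ι, blk M φ j k ∘ₗ blk M ψ i j := by
  unfold blk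
  have h : φ ∘ₗ ψ = ∑ j : ι, φ ∘ₗ (LinearMap.single R M j) ∘ₗ (LinearMap.proj j : (Π k, M k) →ₗ[R] M j) ∘ₗ ψ := by
    conv_lhs => rw [← LinearMap.id_comp ψ, ← sum_single_proj M, sum_comp', comp_sum']
    rfl
  rw [h, sum_comp', comp_sum']
  rfl

theorem trace_eps_comp_comp (deg : ι → ℤ) (φ ψ : (Π k, M k) →ₗ[R] (Π k, M k)) :
    LinearMap.trace R (Π k, M k) (eps M deg ∘ₗ (φ ∘ₗ ψ)) =
      ∑ i : ι, ∑ j : ι, sgn R (deg i) * LinearMap.trace R (M i) (blk M φ j i ∘ₗ blk M ψ i j) := by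
  rw [trace_eps_comp]
  refine Finset.sum_congr rfl fun i _ => ?_
  rw [blk_comp, map_sum, Finset.mul_sum]

theorem trace_eps_comp_eq_zero (deg : ι → ℤ) (a : ℤ) (ha : a ≠ 0) (φ : (Π k, M k) →ₗ[R] (Π k, M k))
    (hφ : ∀ i j : ι, deg j ≠ deg i + a → blk M φ i j = 0) :
    LinearMap.trace R (Π k, M k) (eps M deg ∘ₗ φ) = 0 := by
  rw [trace_eps_comp]
  refine Finset.sum_eq_zero fun i _ => ?_
  rw [hφ i i (by omega), map_zero, mul_zero]

theorem trace_supercomm (deg : ι → ℤ) (a b : ℤ) (φ ψ : (Π k, M k) →ₗ[R] (Π k, M k))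
    (hφ : ∀ i j : ι, deg j ≠ deg i + a → blk M φ i j = 0)
    (hψ : ∀ i j : ι, deg j ≠ deg i + b → blk M ψ i j = 0) :
    LinearMap.trace R (Π k, M k) (eps M deg ∘ₗ (φ ∘ₗ ψ - (sgn R (a * b)) • (ψ ∘ₗ φ))) = 0 := by
  rw [LinearMap.comp_sub, map_sub, LinearMap.comp_smul, map_smul, trace_eps_comp_comp, trace_eps_comp_comp,
    sub_eq_zero, smul_eq_mul, Finset.mul_sum]
  conv_rhs => rw [Finset.sum_congr rfl fun i _ => Finset.mul_sum _ _ _, Finset.sum_comm]
  refine Finset.sum_congr rfl fun i _ => Finset.sum_congr rfl fun j _ => ?_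
  by_cases h1 : deg i = deg j + a
  · by_cases h2 : deg j = deg i + b
    · have hb : b = -a := by omega
      rw [LinearMap.trace_comp_comm' (blk M φ j i) (blk M ψ i j), hb, sgn_mul_neg_self, ← mul_assoc]
      congr 1
      rw [h1, sgn_add, mul_comm]
    · rw [hψ i j h2, LinearMap.comp_zero, LinearMap.zero_comp, map_zero, map_zero, mul_zero, mul_zero, mul_zero]
  · rw [hφ j i h1, LinearMap.zero_comp, LinearMap.comp_zero, map_zero, map_zero, mul_zero, mul_zero, mul_zero]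

end K821.SuperComm
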